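import Mathlib.NumberTheory.Padics.RingHoms
import Mathlib.RingTheory.Finiteness.Basic
import Mathlib.RingTheory.Noetherian.Basic
import Mathlib.LinearAlgebra.Dimension.Finite
import Mathlib.LinearAlgebra.Dimension.Constructions

/-!
# Integral positive forms and `l`-adic representations
-/

universe u v w

namespace Groth.Agent.PosLattice

variable {R : Type u} [AddCommGroup R] (B : R →+ R →+ ℤ) (hBpos : ∀ a : R, a ≠ 0 → 0 < B a a)

include hBpos in
theorem eq_zero_of_zsmul_eq_zero {n : ℤ} {x : R} (hn : n ≠ 0) (h : n • x = 0) : x = 0 := by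
  by_contra hx
  have h1 : n * B x x = 0 := by
    have : B x (n • x) = 0 := by rw [h, map_zero]
    rwa [map_zsmul, smul_eq_mul] at this
  exact (mul_ne_zero hn (hBpos x hx).ne') h1

include hBpos in
/-- The saturation of a finitely generated subgroup has bounded denominators. -/
theorem exists_denominator {ι : Type w} (s : Finset ι) (a : ι → R) :
    ∃ (N : ℤ), N ≠ 0 ∧ ∀ x : R, (∃ n : ℤ, n ≠ 0 ∧ n • x ∈ Submodule.span ℤ (a '' (s : Set ι))) →
      N • x ∈ Submodule.span ℤ (a '' (s : Set ι)) := by
  classical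
  let L := Submodule.span ℤ (a '' (s : Set ι))
  let P : Submodule ℤ R :=
    { carrier := {x | ∃ n : ℤ, n ≠ 0 ∧ n • x ∈ L}
      add_mem' := by
        rintro x y ⟨n, hn, hx⟩ ⟨m, hm, hy⟩
        refine ⟨n * m, mul_ne_zero hn hm, ?_⟩
        rw [smul_add]
        refine add_mem ?_ ?_
        · rw [mul_comm, mul_smul]; exact L.smul_mem m hx
        · rw [mul_smul]; exact L.smul_mem n hy
      zero_mem' := ⟨1, one_ne_zero, by simp⟩
      smul_mem' := by
        rintro c x ⟨n, hn, hx⟩
        exact ⟨n, hn, by rw [smul_comm]; exact L.smul_mem c hx⟩ }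
  let f : P →ₗ[ℤ] (s → ℤ) :=
    (AddMonoidHom.mk' (fun (x : P) (i : s) => B (a i) (x : R)) (fun x y => by
      funext i; simp)).toIntLinearMap
  have hf : Function.Injective f := by
    rw [injective_iff_map_eq_zero]
    rintro ⟨x, n, hn, hx⟩ hfx
    refine Subtype.ext (?_ : x = 0)
    by_contra hne
    have hzero : ∀ y ∈ L, B y x = 0 := by
      intro y hy
      induction hy using Submodule.span_induction with
      | mem y hy =>
        obtain ⟨i, hi, rfl⟩ := hy
        exact congrFun hfx ⟨i, hi⟩
      | zero => simp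
      | add y z _ _ hy hz => simp [hy, hz]
      | smul c y _ hy => simp [map_zsmul, hy]
    have := hzero _ hx
    rw [map_zsmul, AddMonoidHom.smul_apply, smul_eq_mul] at this
    exact mul_ne_zero hn (hBpos x hne).ne' this
  have : Module.Finite ℤ P := Module.Finite.of_injective f hf
  obtain ⟨t, ht⟩ := this.fg_top
  choose den hden hmem using fun x : P => x.2
  refine ⟨∏ x ∈ t, den x, Finset.prod_ne_zero_iff.mpr fun x _ => hden x, fun x hx => ?_⟩
  have hxP : (⟨x, hx⟩ : P) ∈ Submodule.span ℤ (t : Set P) := ht ▸ Submodule.mem_top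
  have key : ∀ y ∈ Submodule.span ℤ (t : Set P), (∏ x ∈ t, den x) • (y : R) ∈ L := by
    intro y hy
    induction hy using Submodule.span_induction with
    | mem y hy =>
      obtain ⟨m, hm⟩ : den y ∣ ∏ x ∈ t, den x := Finset.dvd_prod_of_mem den hy
      rw [hm, mul_comm, mul_smul]
      exact L.smul_mem m (hmem y)
    | zero => simp
    | add y z _ _ hy hz => rw [Submodule.coe_add, smul_add]; exact add_mem hy hz
    | smul c y _ hy => rw [Submodule.coe_smul, smul_comm]; exact L.smul_mem c hy
  exact key _ hxP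

variable (l : ℕ) [Fact l.Prime] {V : Type v} [AddCommGroup V] [Module ℤ_[l] V]
  (M : R →+ Module.End ℤ_[l] V)
  (hdiv : ∀ (β : R) (n : ℕ), (∀ v : V, ∃ w : V, M β v = ((l : ℤ_[l]) ^ n) • w) →
    ∃ β₁ : R, β = (l ^ n) • β₁)

include hBpos hdiv in
/-- Independent elements stay independent `l`-adically. -/
theorem linearIndependent_image {ι : Type w} (a : ι → R) (ha : LinearIndependent ℤ a) :
    LinearIndependent ℤ_[l] (fun i => M (a i)) := by
  classical
  rw [linearIndependent_iff']
  intro s c hc i hi
  obtain ⟨N, hN, hden⟩ := exists_denominator B hBpos s a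
  have hl : (l : ℤ) ≠ 0 := by exact_mod_cast (Fact.out : l.Prime).ne_zero
  have key : ∀ n : ℕ, (l : ℤ_[l]) ^ n ∣ (N : ℤ_[l]) * c i := by
    intro n
    have happ : ∀ j, ∃ d : ℤ, (l : ℤ_[l]) ^ n ∣ c j - (d : ℤ_[l]) := fun j => by
      refine ⟨(PadicInt.appr (c j) n : ℕ), ?_⟩
      rw [← Ideal.mem_span_singleton, Int.cast_natCast]
      exact PadicInt.appr_spec n (c j)
    choose d hd using happ
    choose e he using hd
    let β := ∑ j ∈ s, d j • a j
    obtain ⟨β₁, hβ⟩ := hdiv β n fun v => by
      refine ⟨-∑ j ∈ s, e j • M (a j) v, ?_⟩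
      have h0 : ∑ j ∈ s, c j • M (a j) v = 0 := by
        simpa using congr($hc v)
      rw [smul_neg, Finset.smul_sum, ← sub_eq_zero, sub_neg_eq_add, map_sum, LinearMap.sum_apply,
        ← Finset.sum_add_distrib, ← h0]
      refine Finset.sum_congr rfl fun j _ => ?_
      rw [smul_smul, ← he j, sub_smul, map_zsmul, LinearMap.smul_apply, Int.cast_smul_eq_zsmul]
      abel
    have hβ' : β = ((l : ℤ) ^ n) • β₁ := by
      rw [hβ, ← natCast_zsmul, Nat.cast_pow]
    have hmem : N • β₁ ∈ Submodule.span ℤ (a '' (s : Set ι)) := hden β₁ ⟨(l : ℤ) ^ n, pow_ne_zero n hl, by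
      rw [← hβ']
      exact Submodule.sum_mem _ fun j hj => Submodule.smul_mem _ _ (Submodule.subset_span ⟨j, hj, rfl⟩)⟩
    obtain ⟨g, hg⟩ := (Submodule.mem_span_image_finset_iff_exists_fun' ℤ (s := s)).mp hmem
    have hzero : ∑ j : s, (N * d j - (l : ℤ) ^ n * g j) • a j = 0 := by
      rw [Finset.sum_coe_sort s fun j => (N * d j - (l : ℤ) ^ n * g j) • a j]
      simp only [sub_smul, mul_smul, Finset.sum_sub_distrib, ← Finset.smul_sum]
      show N • β - _ = 0
      rw [hβ', hg, smul_comm, sub_self]
    have hli := Fintype.linearIndependent_iff.mp (ha.comp (Subtype.val : s → ι) Subtype.val_injective)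
      _ hzero ⟨i, hi⟩
    rw [sub_eq_zero] at hli
    obtain ⟨q, hq⟩ : (l : ℤ_[l]) ^ n ∣ c i - (d i : ℤ_[l]) := ⟨e i, he i⟩
    refine ⟨(g i : ℤ_[l]) + (N : ℤ_[l]) * q, ?_⟩
    have hli' : (N : ℤ_[l]) * (d i : ℤ_[l]) = (l : ℤ_[l]) ^ n * (g i : ℤ_[l]) := by
      exact_mod_cast hli
    linear_combination hli' + (N : ℤ_[l]) * hq
  have hzero : (N : ℤ_[l]) * c i = 0 := by
    by_contra hne
    have h := key (((N : ℤ_[l]) * c i).valuation + 1)
    rw [← Ideal.mem_span_singleton, PadicInt.mem_span_pow_iff_le_valuation _ hne] at h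
    omega
  exact (mul_eq_zero.mp hzero).resolve_left (Int.cast_ne_zero.mpr hN)

include hBpos hdiv in
/-- The group is finitely generated when the representation is finite. -/
theorem finite_of_finite [Module.Finite ℤ_[l] V] : Module.Finite ℤ R := by
  classical
  have : Module.Finite ℤ_[l] (Module.End ℤ_[l] V) := by
    obtain ⟨d, f, hf⟩ := Module.Finite.exists_fin' ℤ_[l] V
    let g : Module.End ℤ_[l] V →ₗ[ℤ_[l]] ((Fin d → ℤ_[l]) →ₗ[ℤ_[l]] V) := f.lcomp ℤ_[l] V
    have hg : Function.Injective g := fun p q h => LinearMap.ext fun v => by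
      obtain ⟨w, rfl⟩ := hf v
      exact LinearMap.congr_fun h w
    have : Module.Finite ℤ_[l] ((Fin d → ℤ_[l]) →ₗ[ℤ_[l]] V) :=
      Module.Finite.equiv ((Pi.basisFun ℤ_[l] (Fin d)).constr ℤ_[l])
    exact Module.Finite.of_injective g hg
  let IsLI : Finset R → Prop := fun s => LinearIndependent ℤ (fun x : s => (x : R))
  obtain ⟨d, f, hf⟩ := Module.Finite.exists_fin' ℤ_[l] (Module.End ℤ_[l] V)
  have hbound : ∀ s : Finset R, IsLI s → s.card ≤ d := by
    intro s hs
    have h1 := linearIndependent_image B hBpos l M hdiv (fun x : s => (x : R)) hs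
    choose g hg using fun x : s => hf (M (x : R))
    have h2 : LinearIndependent ℤ_[l] g := by
      apply LinearIndependent.of_comp f
      simpa [Function.comp_def, hg] using h1
    simpa using h2.fintype_card_le_finrank
  let P : ℕ → Prop := fun n => ∃ s : Finset R, IsLI s ∧ s.card = n
  have hP0 : P 0 := ⟨∅, linearIndependent_empty_type, rfl⟩
  obtain ⟨s, hs, hcard⟩ : P (Nat.findGreatest P d) := Nat.findGreatest_spec (Nat.zero_le d) hP0
  obtain ⟨N, hN, hden⟩ := exists_denominator B hBpos s (fun x : R => x)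
  simp only [Set.image_id'] at hden
  have hsat : ∀ x : R, N • x ∈ Submodule.span ℤ (s : Set R) := by
    intro x
    refine hden x ?_
    by_contra hcon
    push Not at hcon
    have hxs : x ∉ s := fun hx => hcon 1 one_ne_zero (by rw [one_smul]; exact Submodule.subset_span hx)
    have hins : IsLI (insert x s) := by
      show LinearIndependent ℤ (fun y : (insert x s : Finset R) => (y : R))
      have : LinearIndepOn ℤ id ((insert x s : Finset R) : Set R) := by
        rw [Finset.coe_insert, linearIndepOn_iff'']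
        intro t g hts hg0 hsum y hy
        have hgx : g x = 0 := by
          by_contra hgx
          refine hcon (g x) hgx ?_
          have hxt : x ∈ t := by
            by_contra hxt
            exact hgx (hg0 x hxt)
          rw [← Finset.add_sum_erase _ _ hxt] at hsum
          simp only [id] at hsum
          rw [eq_neg_of_add_eq_zero_left hsum]
          refine Submodule.neg_mem _ (Submodule.sum_mem _ fun z hz => Submodule.smul_mem _ _ ?_)
          obtain ⟨hzx, hzt⟩ := Finset.mem_erase.mp hz
          exact Submodule.subset_span ((Set.mem_insert_iff.mp (hts hzt)).resolve_left hzx)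
        rcases eq_or_ne y x with rfl | hyx
        · exact hgx
        by_cases hyt : y ∈ t
        swap
        · exact hg0 y hyt
        have hs' : LinearIndepOn ℤ id (s : Set R) := hs
        refine (linearIndepOn_iff'.mp hs') (t.erase x) g (fun z hz => ?_) ?_ y
          (Finset.mem_erase.mpr ⟨hyx, hyt⟩)
        · obtain ⟨hzx, hzt⟩ := Finset.mem_erase.mp (Finset.mem_coe.mp hz)
          exact (Set.mem_insert_iff.mp (hts hzt)).resolve_left hzx
        · rw [← hsum]
          by_cases hxt : x ∈ t
          · rw [← Finset.add_sum_erase _ _ hxt, hgx, zero_smul, zero_add]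
          · rw [Finset.erase_eq_of_notMem hxt]
      exact this
    have h1 := Nat.le_findGreatest (hbound _ hins) (P := P) ⟨_, hins, rfl⟩
    rw [Finset.card_insert_of_notMem hxs, ← hcard] at h1
    omega
  let L := Submodule.span ℤ (s : Set R)
  let φ : R →ₗ[ℤ] L := LinearMap.codRestrict L (N • LinearMap.id) hsat
  have hφ : Function.Injective φ := by
    rw [injective_iff_map_eq_zero]
    intro x hx
    exact eq_zero_of_zsmul_eq_zero B hBpos hN (congrArg Subtype.val hx)
  exact Module.Finite.of_injective φ hφ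

end Groth.Agent.PosLattice
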